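import Mathlib
import Groth.Prelude.Def_Curves

/-!
# `C_i` fields: finite and algebraic extensions, rational function fields, Tsen-Lang
-/

set_option autoImplicit false

universe u v

open MvPolynomial

namespace Groth.Agent.CiField

section Transfer

variable {K : Type u} [Field K] {i : ℕ}

theorem isCi_of_fintype (hK : Curves.IsCi K i) {R σ : Type*} [Fintype R] [Fintype σ]
    (f : R → MvPolynomial σ K) (d : R → ℕ) (hf : ∀ r, (f r).IsHomogeneous (d r))
    (hd : ∀ r, 0 < d r) (hlt : ∑ r, d r ^ i < Fintype.card σ) :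
    ∃ a : σ → K, a ≠ 0 ∧ ∀ r, eval a (f r) = 0 := by
  let eR := (Fintype.equivFin R).symm
  let eσ := Fintype.equivFin σ
  obtain ⟨a, ha, hfa⟩ := hK _ _ (fun ρ => rename eσ (f (eR ρ))) (fun ρ => d (eR ρ))
    (fun ρ => (hf _).rename_isHomogeneous) (fun ρ => hd _)
    (by rw [eR.sum_comp (fun r => d r ^ i)]; exact hlt)
  refine ⟨a ∘ eσ, fun h => ha (funext fun x => by simpa using congrFun h (eσ.symm x)), fun r => ?_⟩
  have := hfa (eR.symm r)
  simpa [eval_rename] using this

theorem isCi_mono {j : ℕ} (h : i ≤ j) (hK : Curves.IsCi K i) : Curves.IsCi K j := by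
  intro r n f d hf hd hlt
  exact hK r n f d hf hd (lt_of_le_of_lt (Finset.sum_le_sum fun ρ _ => Nat.pow_le_pow_right (hd ρ) h) hlt)

end Transfer

section Coord

variable {R : Type u} {A : Type v} [CommRing R] [CommRing A] [Algebra R A] {σ : Type*}

/-- apply a linear form to all coefficients -/
noncomputable def coord (l : A →ₗ[R] R) (g : MvPolynomial σ A) : MvPolynomial σ R :=
  ∑ m ∈ g.support, monomial m (l (g.coeff m))

theorem coord_isHomogeneous (l : A →ₗ[R] R) {g : MvPolynomial σ A} {d : ℕ} (hg : g.IsHomogeneous d) :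
    (coord l g).IsHomogeneous d := by
  refine IsHomogeneous.sum _ _ _ fun m hm => isHomogeneous_monomial _ ?_
  rw [Finsupp.degree_eq_weight_one]
  exact hg (mem_support_iff.mp hm)

theorem eval_coord (l : A →ₗ[R] R) (g : MvPolynomial σ A) (a : σ → R) :
    eval a (coord l g) = l (eval (fun x => algebraMap R A (a x)) g) := by
  conv_rhs => rw [eval_eq]
  rw [coord, map_sum, map_sum]
  refine Finset.sum_congr rfl fun m _ => ?_
  rw [eval_monomial, Finsupp.prod]
  simp only [← map_pow, ← map_prod]
  rw [mul_comm (g.coeff m), ← Algebra.smul_def, map_smul, smul_eq_mul, mul_comm]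

end Coord

section Finite

variable {K : Type u} [Field K] {L : Type v} [Field L] [Algebra K L]
  {ι : Type} [Fintype ι] (b : Module.Basis ι K L) {n : ℕ}

/-- substitute `x_j = ∑ b_e y_(j,e)` -/
noncomputable def subst (f : MvPolynomial (Fin n) L) : MvPolynomial (Fin n × ι) L :=
  eval₂ C (fun j => ∑ e, C (b e) * X (j, e)) f

theorem subst_isHomogeneous {f : MvPolynomial (Fin n) L} {d : ℕ} (hf : f.IsHomogeneous d) :
    (subst b f).IsHomogeneous d := by
  have := hf.eval₂ C (fun j => ∑ e, C (b e) * X (j, e)) (n := 1)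
    (fun r => isHomogeneous_C _ r)
    (fun j => IsHomogeneous.sum _ _ _ fun e _ => isHomogeneous_C_mul_X _ _)
  simpa [subst] using this

theorem eval_subst (f : MvPolynomial (Fin n) L) (a : Fin n × ι → K) :
    eval (fun x => algebraMap K L (a x)) (subst b f) = eval (fun j => ∑ e, a (j, e) • b e) f := by
  rw [subst, ← coe_eval₂Hom, map_eval₂Hom]
  refine eval₂Hom_congr (RingHom.ext fun r => by simp) (funext fun j => ?_) rfl
  rw [map_sum]
  refine Finset.sum_congr rfl fun e _ => ?_
  rw [map_mul, eval_C, eval_X, mul_comm, Algebra.smul_def]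

theorem comb_ne_zero {a : Fin n × ι → K} (ha : a ≠ 0) : (fun j => ∑ e, a (j, e) • b e) ≠ 0 := by
  intro h
  apply ha
  funext x
  exact Fintype.linearIndependent_iff.mp b.linearIndependent _ (congrFun h x.1) x.2

end Finite

theorem isCi_finite {K : Type u} [Field K] {i : ℕ} (hK : Curves.IsCi K i) {L : Type v} [Field L]
    [Algebra K L] [FiniteDimensional K L] : Curves.IsCi L i := by
  intro r n f d hf hd hlt
  let b := Module.finBasis K L
  obtain ⟨a, ha, hfa⟩ := isCi_of_fintype hK
    (fun x : Fin r × Fin (Module.finrank K L) => coord (b.coord x.2) (subst b (f x.1)))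
    (fun x => d x.1) (fun x => coord_isHomogeneous _ (subst_isHomogeneous b (hf x.1))) (fun x => hd x.1)
    (by
      rw [Fintype.sum_prod_type]
      simp only [Finset.sum_const, Finset.card_univ, Fintype.card_fin, smul_eq_mul,
        Fintype.card_prod, ← Finset.mul_sum]
      rw [mul_comm n]
      exact Nat.mul_lt_mul_of_pos_left hlt Module.finrank_pos)
  refine ⟨fun j => ∑ e, a (j, e) • b e, comb_ne_zero b ha, fun ρ => ?_⟩
  rw [← eval_subst b]
  refine (b.forall_coord_eq_zero_iff).mp fun e => ?_
  have := hfa (ρ, e)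
  rwa [eval_coord] at this

theorem isCr_one_finite {K : Type u} [Field K] (hK : Curves.IsCr K 1) {L : Type v} [Field L]
    [Algebra K L] [FiniteDimensional K L] : Curves.IsCr L 1 := by
  classical
  intro n d f hf hd hlt
  let N := Module.finrank K L
  let b := Module.finBasis K L
  let M : Matrix (Fin N) (Fin N) (MvPolynomial (Fin n × Fin N) K) :=
    Matrix.of fun e e' => coord (b.coord e) (C (b e') * subst b f)
  have hM : M.det.IsHomogeneous (N * d) := by
    rw [Matrix.det_apply']
    refine IsHomogeneous.sum _ _ _ fun σ _ => ?_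
    have h1 : (∏ e, M (σ e) e).IsHomogeneous (∑ _e : Fin N, d) := IsHomogeneous.prod _ _ _ fun e _ =>
      coord_isHomogeneous _ ((subst_isHomogeneous b hf).C_mul _)
    simp only [Finset.sum_const, Finset.card_univ, Fintype.card_fin, smul_eq_mul] at h1
    rw [← map_intCast (C : K →+* MvPolynomial (Fin n × Fin N) K)]
    exact h1.C_mul _
  let e' := Fintype.equivFin (Fin n × Fin N)
  have hN : 0 < N := Module.finrank_pos
  obtain ⟨a, ha, hfa⟩ := hK _ (N * d) (rename e' M.det) hM.rename_isHomogeneous
    (Nat.mul_pos hN hd) (by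
      simp only [pow_one, Fintype.card_prod, Fintype.card_fin] at hlt ⊢
      rw [mul_comm n]
      exact Nat.mul_lt_mul_of_pos_left hlt hN)
  let a' : Fin n × Fin N → K := a ∘ e'
  have ha' : a' ≠ 0 := fun h => ha (funext fun x => by simpa [a'] using congrFun h (e'.symm x))
  refine ⟨fun j => ∑ e, a' (j, e) • b e, comb_ne_zero b ha', ?_⟩
  rw [← eval_subst b]
  set y := eval (fun x => algebraMap K L (a' x)) (subst b f) with hy
  have hmat : (eval a').mapMatrix M = Algebra.leftMulMatrix b y := by
    ext e e''
    rw [RingHom.mapMatrix_apply, Matrix.map_apply]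
    show eval a' (coord (b.coord e) (C (b e'') * subst b f)) = Algebra.leftMulMatrix b y e e''
    rw [eval_coord, Algebra.leftMulMatrix_eq_repr_mul, map_mul, eval_C, mul_comm, hy]
    rfl
  have : Algebra.norm K y = 0 := by
    rw [Algebra.norm_eq_matrix_det b, ← hmat, ← RingHom.map_det]
    rw [eval_rename] at hfa
    exact hfa
  exact Algebra.norm_eq_zero_iff.mp this

theorem isCi_algebraic {K : Type u} [Field K] {i : ℕ} (hK : Curves.IsCi K i) {L : Type v} [Field L]
    [Algebra K L] [Algebra.IsAlgebraic K L] : Curves.IsCi L i := by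
  classical
  intro r n f d hf hd hlt
  let S : Finset L := Finset.univ.biUnion fun ρ => (f ρ).coeffs
  let L' := IntermediateField.adjoin K (S : Set L)
  have : FiniteDimensional K L' :=
    IntermediateField.finiteDimensional_adjoin fun x _ => Algebra.IsIntegral.isIntegral x
  have hmem : ∀ ρ, ∃ g : MvPolynomial (Fin n) L', map (algebraMap L' L) g = f ρ := fun ρ => by
    have : f ρ ∈ Set.range (map (σ := Fin n) (algebraMap L' L)) := by
      rw [mem_range_map_iff_coeffs_subset]
      intro c hc
      exact ⟨⟨c, IntermediateField.subset_adjoin K _ (Finset.mem_biUnion.mpr ⟨ρ, Finset.mem_univ _, hc⟩)⟩, rfl⟩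
    exact this
  choose g hg using hmem
  have hgd : ∀ ρ, (g ρ).IsHomogeneous (d ρ) := fun ρ => by
    have := hf ρ
    rw [← hg ρ] at this
    exact IsHomogeneous.of_map (algebraMap L' L).injective this
  obtain ⟨a, ha, hga⟩ := isCi_finite hK r n g d hgd hd hlt
  refine ⟨fun j => algebraMap L' L (a j), fun h => ha (funext fun j =>
    (algebraMap L' L).injective (by simpa using congrFun h j)), fun ρ => ?_⟩
  rw [← hg ρ, eval_map]
  have h1 := eval₂_comp_left (algebraMap L' L) (RingHom.id _) a (g ρ)
  rw [RingHom.comp_id] at h1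
  change eval₂ (algebraMap L' L) (algebraMap L' L ∘ a) (g ρ) = 0
  rw [← h1, show eval₂ (RingHom.id _) a (g ρ) = eval a (g ρ) from rfl, hga ρ, map_zero]

theorem isCi_ringEquiv {K : Type u} [Field K] {i : ℕ} (hK : Curves.IsCi K i) {L : Type v} [Field L]
    (e : K ≃+* L) : Curves.IsCi L i := by
  let := e.toRingHom.toAlgebra
  have : Algebra.IsAlgebraic K L := ⟨fun x => by
    obtain ⟨y, rfl⟩ := e.surjective x
    exact isAlgebraic_algebraMap y⟩
  exact isCi_algebraic hK

section RatFunc

variable {K : Type u} [Field K] {i : ℕ}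

open Polynomial in
theorem natDegree_eval_le {n : ℕ} {f : MvPolynomial (Fin n) K[X]} {d D s : ℕ}
    (hf : f.IsHomogeneous d) (hD : ∀ m, (f.coeff m).natDegree ≤ D) {x : Fin n → K[X]}
    (hx : ∀ j, (x j).natDegree ≤ s) : (MvPolynomial.eval x f).natDegree ≤ D + d * s := by
  rw [MvPolynomial.eval_eq]
  refine Polynomial.natDegree_sum_le_of_forall_le _ _ fun m hm => ?_
  refine Polynomial.natDegree_mul_le.trans (Nat.add_le_add (hD m) ?_)
  refine (Polynomial.natDegree_prod_le _ _).trans ?_
  have hdeg : m.degree = d := by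
    rw [Finsupp.degree_eq_weight_one]; exact hf (MvPolynomial.mem_support_iff.mp hm)
  rw [← hdeg, Finsupp.degree_apply, Finset.sum_mul]
  refine Finset.sum_le_sum fun j _ => ?_
  exact Polynomial.natDegree_pow_le.trans (Nat.mul_le_mul_left _ (hx j))

theorem isCi_ratFunc (hK : Curves.IsCi K i) : Curves.IsCi (RatFunc K) (i + 1) := by
  classical
  intro r n f d hf hd hlt
  -- clear denominators
  let S : Finset (RatFunc K) := Finset.univ.biUnion fun ρ => (f ρ).coeffs
  obtain ⟨⟨c, hc⟩, hcS⟩ := IsLocalization.exist_integer_multiples_of_finset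
    (nonZeroDivisors (Polynomial K)) S
  have hg : ∀ ρ, ∃ g : MvPolynomial (Fin n) (Polynomial K),
      map (algebraMap (Polynomial K) (RatFunc K)) g = C (algebraMap _ _ c) * f ρ := fun ρ => by
    have : C (algebraMap (Polynomial K) (RatFunc K) c) * f ρ ∈
        Set.range (map (σ := Fin n) (algebraMap (Polynomial K) (RatFunc K))) := by
      rw [mem_range_map_iff_coeffs_subset]
      intro y hy
      obtain ⟨m, hm, rfl⟩ := mem_coeffs_iff.mp hy
      rw [mem_support_iff, coeff_C_mul] at hm
      rw [coeff_C_mul]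
      obtain ⟨z, hz⟩ := hcS _ (Finset.mem_biUnion.mpr ⟨ρ, Finset.mem_univ _,
        coeff_mem_coeffs m (right_ne_zero_of_mul hm)⟩)
      exact ⟨z, by rw [hz, Algebra.smul_def]⟩
    exact this
  choose g hg using hg
  have hgd : ∀ ρ, (g ρ).IsHomogeneous (d ρ) := fun ρ => by
    refine IsHomogeneous.of_map (IsFractionRing.injective (Polynomial K) (RatFunc K)) ?_
    rw [hg ρ]
    exact (hf ρ).C_mul _
  let D := Finset.univ.sup fun ρ => (g ρ).support.sup fun m => ((g ρ).coeff m).natDegree
  have hD : ∀ ρ m, ((g ρ).coeff m).natDegree ≤ D := fun ρ m => by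
    by_cases hm : m ∈ (g ρ).support
    · exact (Finset.le_sup (f := fun m => ((g ρ).coeff m).natDegree) hm).trans
        (Finset.le_sup (f := fun ρ => (g ρ).support.sup fun m => ((g ρ).coeff m).natDegree) (Finset.mem_univ ρ))
    · rw [notMem_support_iff.mp hm]; simp
  let s := (D + 1) * ∑ ρ, d ρ ^ i
  -- the system over `K`
  let sub : MvPolynomial (Fin n) (Polynomial K) →+* MvPolynomial (Fin n × Fin (s + 1)) (Polynomial K) :=
    eval₂Hom C fun j => ∑ e : Fin (s + 1), C (Polynomial.X ^ (e : ℕ)) * X (j, e)
  have hsub : ∀ ρ, (sub (g ρ)).IsHomogeneous (d ρ) := fun ρ => by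
    have := (hgd ρ).eval₂ C (fun j => ∑ e : Fin (s + 1), C (Polynomial.X ^ (e : ℕ)) * X (j, e))
      (n := 1) (fun z => isHomogeneous_C _ z)
      (fun j => IsHomogeneous.sum _ _ _ fun e _ => isHomogeneous_C_mul_X _ _)
    rw [one_mul] at this
    exact this
  obtain ⟨a, ha, hfa⟩ := isCi_of_fintype hK
    (fun x : (ρ : Fin r) × Fin (D + d ρ * s + 1) => coord (Polynomial.lcoeff K x.2) (sub (g x.1)))
    (fun x => d x.1) (fun x => coord_isHomogeneous _ (hsub x.1)) (fun x => hd x.1)
    (by
      rw [Fintype.sum_sigma]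
      simp only [Finset.sum_const, Finset.card_univ, Fintype.card_fin, smul_eq_mul,
        Fintype.card_prod]
      have h1 : ∑ ρ, (D + d ρ * s + 1) * d ρ ^ i = s * ∑ ρ, d ρ ^ (i + 1) + s := by
        rw [Finset.sum_congr rfl (fun ρ _ => show (D + d ρ * s + 1) * d ρ ^ i =
          s * d ρ ^ (i + 1) + (D + 1) * d ρ ^ i by ring), Finset.sum_add_distrib,
          ← Finset.mul_sum, ← Finset.mul_sum]
      rw [h1, mul_add n, mul_one, mul_comm n s]
      have h2 : s * ∑ ρ, d ρ ^ (i + 1) + s ≤ s * n := by
        rw [← Nat.mul_succ]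
        exact Nat.mul_le_mul_left s hlt
      have h3 : 0 < n := lt_of_le_of_lt (Nat.zero_le _) hlt
      omega)
  let x : Fin n → Polynomial K := fun j => ∑ e : Fin (s + 1), Polynomial.C (a (j, e)) * Polynomial.X ^ (e : ℕ)
  have hxc : ∀ j (e : Fin (s + 1)), (x j).coeff e = a (j, e) := fun j e => by
    simp only [x, Polynomial.finsetSum_coeff, Polynomial.coeff_C_mul_X_pow]
    rw [Finset.sum_eq_single e]
    · simp
    · intro e' _ he'
      simp [Fin.val_inj, Ne.symm he']
    · simp
  refine ⟨fun j => algebraMap _ _ (x j), fun h => ha (funext fun ⟨j, e⟩ => ?_), fun ρ => ?_⟩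
  · rw [← hxc, IsFractionRing.injective (Polynomial K) (RatFunc K) (show algebraMap _ _ (x j) = algebraMap _ _ (0 : Polynomial K) by
      rw [map_zero]; exact congrFun h j)]
    simp
  have heval : MvPolynomial.eval x (g ρ) = 0 := by
    refine Polynomial.ext fun m => ?_
    rw [Polynomial.coeff_zero]
    by_cases hm : m ≤ D + d ρ * s
    · have := hfa ⟨ρ, ⟨m, Nat.lt_succ_of_le hm⟩⟩
      rw [eval_coord] at this
      refine Eq.trans ?_ this
      show _ = Polynomial.coeff _ m
      congr 1
      show _ = (eval fun z => Polynomial.C (a z)) (eval₂Hom C _ (g ρ))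
      rw [map_eval₂Hom]
      refine eval₂Hom_congr (RingHom.ext fun z => by simp) (funext fun j => ?_) rfl
      rw [map_sum]
      refine Finset.sum_congr rfl fun e _ => ?_
      rw [map_mul, eval_C, eval_X, mul_comm]
    · refine Polynomial.coeff_eq_zero_of_natDegree_lt (lt_of_le_of_lt ?_ (not_le.mp hm))
      refine natDegree_eval_le (hgd ρ) (hD ρ) fun j => ?_
      exact Polynomial.natDegree_sum_le_of_forall_le _ _ fun e _ =>
        (Polynomial.natDegree_C_mul_X_pow_le _ _).trans (Nat.le_of_lt_succ e.2)
  have := congrArg (algebraMap (Polynomial K) (RatFunc K)) heval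
  rw [map_zero, map_eval, hg, map_mul, eval_C] at this
  rcases mul_eq_zero.mp this with h0 | h0
  · exact absurd (IsFractionRing.injective (Polynomial K) (RatFunc K) (h0.trans (map_zero _).symm))
      (nonZeroDivisors.ne_zero hc)
  · exact h0

end RatFunc

section TsenLang

theorem isCi_zero_of_isAlgClosed (k : Type u) [Field k] [IsAlgClosed k] : Curves.IsCi k 0 := by
  classical
  intro r n f d hf hd hlt
  simp only [pow_zero, Finset.sum_const, Finset.card_univ, Fintype.card_fin, smul_eq_mul, mul_one] at hlt
  by_contra hno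
  push Not at hno
  let M : Ideal (MvPolynomial (Fin n) k) := vanishingIdeal k {(0 : Fin n → k)}
  have hMmax : M.IsMaximal := isMaximal_iff_eq_vanishingIdeal_singleton.mpr ⟨0, rfl⟩
  let J := Ideal.span (Set.range f)
  have hJM : J ≤ M := Ideal.span_le.mpr (Set.range_subset_iff.mpr fun ρ => by
    rw [SetLike.mem_coe, mem_vanishingIdeal_singleton_iff, aeval_zero, constantCoeff_eq]
    exact (hf ρ).coeff_eq_zero (d := 0) (by simp; exact (hd ρ).ne))
  have hrad : J.radical = M := by
    rw [← vanishingIdeal_zeroLocus_eq_radical (K := k) J]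
    refine congrArg _ (Set.Subset.antisymm (fun a ha => ?_) ?_)
    · by_contra ha0
      obtain ⟨ρ, hρ⟩ := hno a (by simpa using ha0)
      exact hρ (ha (f ρ) (Ideal.subset_span ⟨ρ, rfl⟩))
    · rintro _ rfl p hp
      exact (mem_vanishingIdeal_singleton_iff _ _).mp (hJM hp)
  have hmin : M ∈ J.minimalPrimes := ⟨⟨hMmax.isPrime, hJM⟩, fun q hq _ => hrad ▸ hq.1.radical_le_iff.mpr hq.2⟩
  have h1 : M.height ≤ r :=
    (Ideal.height_le_card_of_mem_minimalPrimes_span (Set.finite_range f) hmin).trans (by
      exact_mod_cast (Finite.card_range_le f).trans (by simp))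
  -- a chain of primes of length `n` below `M`
  let P : ℕ → Ideal (MvPolynomial (Fin n) k) := fun i =>
    RingHom.ker (aeval fun s : Fin n => if (s : ℕ) < i then (0 : MvPolynomial (Fin n) k) else X s)
  have hP : ∀ i, (P i).IsPrime := fun i => RingHom.ker_isPrime _
  have hlt' : ∀ i, i < n → P i < P (i + 1) := fun i hi => by
    refine lt_of_le_of_ne (fun p hp => ?_) fun h => ?_
    · have e : (aeval fun s : Fin n => if (s : ℕ) < i + 1 then (0 : MvPolynomial (Fin n) k) else X s) =
          (aeval fun s : Fin n => if (s : ℕ) < i + 1 then (0 : MvPolynomial (Fin n) k) else X s).comp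
            (aeval fun s : Fin n => if (s : ℕ) < i then (0 : MvPolynomial (Fin n) k) else X s) := by
        ext s : 1
        by_cases h : (s : ℕ) < i
        · simp [h, h.le]
        · simp [h]
      rw [RingHom.mem_ker] at hp ⊢
      rw [e, AlgHom.comp_apply, hp, map_zero]
    · have h' : (X ⟨i, hi⟩ : MvPolynomial (Fin n) k) ∈ P (i + 1) := by simp [P]
      rw [← h] at h'
      simp [P] at h'
  have hchain : ∀ i, i ≤ n → (i : ℕ∞) ≤ (P i).height := by
    intro i hi
    induction i with
    | zero => simp
    | succ i ih =>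
      have := hP i; have := hP (i + 1)
      refine le_trans ?_ (Ideal.height_add_one_le_of_lt_of_isPrime (hlt' i hi))
      push_cast
      exact add_le_add (ih (Nat.le_of_succ_le hi)) le_rfl
  have hPn : P n ≤ M := fun p hp => by
    rw [mem_vanishingIdeal_singleton_iff]
    have h0 : (aeval (0 : Fin n → k)).comp (aeval fun s : Fin n => if (s : ℕ) < n then (0 : MvPolynomial (Fin n) k) else X s)
        = aeval (0 : Fin n → k) := by ext s; simp
    rw [← h0, AlgHom.comp_apply, hp, map_zero]
  have h3 := ((hchain n le_rfl).trans (Ideal.height_mono hPn)).trans h1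
  exact absurd (Nat.cast_le.mp h3) (not_le.mpr hlt)

theorem isCi_adjoin {k : Type u} [Field k] {m : ℕ} (hk : Curves.IsCi k m) {K : Type v} [Field K]
    [Algebra k K] (j : ℕ) :
    ∀ x : Fin j → K, Curves.IsCi (IntermediateField.adjoin k (Set.range x)) (m + j) := by
  induction j with
  | zero =>
    intro x
    rw [Set.range_eq_empty, IntermediateField.adjoin_empty]
    exact isCi_ringEquiv hk (IntermediateField.botEquiv k K).symm.toRingEquiv
  | succ j ih =>
    intro x
    let F := IntermediateField.adjoin k (Set.range (x ∘ Fin.castSucc))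
    let t := x (Fin.last j)
    have hF : Curves.IsCi F (m + j) := ih _
    have heq : (IntermediateField.adjoin F {t}).restrictScalars k =
        IntermediateField.adjoin k (Set.range x) := by
      rw [IntermediateField.adjoin_adjoin_left]
      congr 1
      ext y
      constructor
      · rintro (⟨i, rfl⟩ | rfl)
        exacts [⟨_, rfl⟩, ⟨_, rfl⟩]
      · rintro ⟨i, rfl⟩
        induction i using Fin.lastCases with
        | last => exact Or.inr rfl
        | cast i => exact Or.inl ⟨i, rfl⟩
    suffices h : Curves.IsCi (IntermediateField.adjoin F {t}) (m + (j + 1)) by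
      refine isCi_ringEquiv h ?_
      exact RingEquiv.ofBijective
        ({ toFun := fun z => ⟨z.1, (SetLike.ext_iff.mp heq z.1).mp z.2⟩, map_one' := rfl,
           map_mul' := fun _ _ => rfl, map_zero' := rfl, map_add' := fun _ _ => rfl } :
          IntermediateField.adjoin F {t} →+* IntermediateField.adjoin k (Set.range x))
        ⟨fun a b h => Subtype.ext (congrArg Subtype.val h :),
          fun z => ⟨⟨z.1, (SetLike.ext_iff.mp heq z.1).mpr z.2⟩, rfl⟩⟩
    by_cases ht : IsAlgebraic F t
    · have : FiniteDimensional F (IntermediateField.adjoin F {t}) :=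
        IntermediateField.adjoin.finiteDimensional ht.isIntegral
      exact isCi_mono (Nat.le_succ (m + j)) (isCi_finite hF)
    · have hinj : Function.Injective (Polynomial.aeval (R := F) t) := transcendental_iff_injective.mp ht
      let ψ : RatFunc F →ₐ[F] K := RatFunc.liftAlgHom (Polynomial.aeval t)
        (nonZeroDivisors_le_comap_nonZeroDivisors_of_injective _ hinj)
      have hr : ψ.fieldRange = IntermediateField.adjoin F {t} := by
        refine le_antisymm ?_ (IntermediateField.adjoin_le_iff.mpr (Set.singleton_subset_iff.mpr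
          ⟨algebraMap (Polynomial F) (RatFunc F) Polynomial.X, ?_⟩))
        · rintro _ ⟨z, rfl⟩
          induction z using RatFunc.induction_on with
          | f p q hq =>
            show ψ _ ∈ _
            rw [RatFunc.liftAlgHom_apply_div]
            have hm : ∀ p : Polynomial F, Polynomial.aeval t p ∈ IntermediateField.adjoin F {t} := fun p =>
              IntermediateField.algebra_adjoin_le_adjoin F {t} (Polynomial.aeval_mem_adjoin_singleton F t)
            exact div_mem (hm p) (hm q)
        · show ψ _ = t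
          have := RatFunc.liftAlgHom_apply_div (S := F) (Polynomial.aeval t)
            (nonZeroDivisors_le_comap_nonZeroDivisors_of_injective _ hinj) Polynomial.X 1
          simpa using this
      rw [← hr]
      exact isCi_ringEquiv (isCi_ratFunc hF) (AlgEquiv.ofInjectiveField ψ).toRingEquiv

theorem isCi_of_trdeg {k : Type u} [Field k] [IsAlgClosed k] {K : Type u} [Field K] [Algebra k K]
    {j : ℕ} (hj : Algebra.trdeg k K = j) : Curves.IsCi K j := by
  obtain ⟨s, hs⟩ := exists_isTranscendenceBasis k K
  have hcard : Cardinal.mk s = j := by rw [hs.cardinalMk_eq_trdeg, hj]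
  obtain ⟨e⟩ := Cardinal.mk_eq_nat_iff.mp hcard
  have hs' := hs.comp_equiv e.symm
  have := hs'.isAlgebraic_field
  have h := isCi_algebraic (L := K)
    (isCi_adjoin (isCi_zero_of_isAlgClosed k) (K := K) j (Subtype.val ∘ e.symm))
  rwa [zero_add] at h

theorem isCi_of_isTranscendenceBasis {k : Type u} [Field k] {K : Type v} [Field K] [Algebra k K]
    {m t : ℕ} {x : Fin t → K} (hx : IsTranscendenceBasis k x) (hk : Curves.IsCi k m) :
    Curves.IsCi K (m + t) := by
  have := hx.isAlgebraic_field
  exact isCi_algebraic (isCi_adjoin hk t x)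

end TsenLang

end Groth.Agent.CiField
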